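import Groth.Agent.Lib.AlgSpNormCover.Basic

/-!
# Relative normalisations over an open where the map is integral
-/

universe u

open CategoryTheory CategoryTheory.Limits AlgebraicGeometry Opposite Topology

namespace Groth.Agent.Lib.AlgSpNormCover

open AlgSp Groth.Agent.Lib.AlgSpace Groth.Agent.Lib.AlgSpMor Groth.Agent.Lib.AlgSpMor.RelNorm
  Groth.Agent.Lib.AlgSpDecent

variable {S : Scheme.{u}}

/-- Over an open where the map is integral the relative normalisation is the source. -/
theorem isPullback_of_str {X V Z Y' : Sp S} (hX : IsAlgSpace X) (hV : IsAlgSpace V) (hZ : IsAlgSpace Z)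
    (hY' : IsAlgSpace Y') {j : V ⟶ X} (hj : RepWith @IsOpenImmersion j) {π : Z ⟶ V}
    (hπ : IsIntegralMor π) {ν : Y' ⟶ X} {f' : Z ⟶ Y'} (hstr : Str (π ≫ j) ν f') :
    IsPullback f' π ν j := by
  have : Mono j := mono_of_repWith (P := @IsOpenImmersion)
    (fun _ _ g (_ : IsOpenImmersion g) ↦ (inferInstance : Mono g)) hj
  have sqN := IsPullback.of_hasPullback ν j
  have hN := isAlgSpace_of_isPullback sqN hX.diag hY' hV
  have sqP : IsPullback (𝟙 Z) π (π ≫ j) j := by
    simpa using (IsPullback.of_horiz_isIso (⟨by simp⟩ : CommSq (𝟙 Z) π π (𝟙 V))).paste_vert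
      (IsKernelPair.id_of_mono j)
  let k : Z ⟶ Limits.pullback ν j := sqN.lift f' π hstr.fac
  have hn : IsRelNormalization π (Limits.pullback.snd ν j) k :=
    (hstr.baseChange hX hV (locP_smooth_of_etale
      (repWith_mono hj fun _ _ g (_ : IsOpenImmersion g) => (inferInstance : Etale g))) sqP sqN
      (by rw [sqN.lift_fst, Category.id_comp]) (sqN.lift_snd _ _ _)).isRelNormalization hV
  obtain ⟨g, ⟨hg1, hg2⟩, -⟩ := hn.2.2 hZ π (𝟙 _) hπ (Category.id_comp _)
  have hg3 : g ≫ k = 𝟙 _ := by
    obtain ⟨w, -, hw⟩ := hn.2.2 hN (Limits.pullback.snd ν j) k hn.2.1 hn.1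
    rw [hw (g ≫ k) ⟨by rw [← Category.assoc, hg1, Category.id_comp], by rw [Category.assoc, hn.1, hg2]⟩,
      hw (𝟙 _) ⟨Category.comp_id _, Category.id_comp _⟩]
  let e : Limits.pullback ν j ≅ Z := ⟨g, k, hg3, hg1⟩
  exact sqN.of_iso e (Iso.refl _) (Iso.refl _) (Iso.refl _)
    (by show Limits.pullback.fst ν j ≫ 𝟙 _ = g ≫ f'
        rw [← sqN.lift_fst f' π hstr.fac, ← Category.assoc g, hg3, Category.id_comp, Category.comp_id])
    (by show Limits.pullback.snd ν j ≫ 𝟙 _ = g ≫ π
        rw [hg2, Category.comp_id])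
    (by simp) (by simp)

/-- Integral maps are closed on points. -/
theorem isClosedMap_map {X Y : Sp S} (hY : IsAlgSpace Y) {π : X ⟶ Y}
    (hπ : RepWith @IsIntegralHom π) : IsClosedMap (Points.map π) := by
  intro Z hZ
  obtain ⟨T, p, hp, hps⟩ := hY.atlas
  rw [← isOpen_compl_iff, Core.isOpen_iff_chart hp hps, Set.preimage_compl, isOpen_compl_iff,
    preimage_image_map (hπ.rep.isPullback p)]
  have : IsIntegralHom (hπ.rep.snd p).left := hπ.property_snd p
  exact (hπ.rep.snd p).left.isClosedMap _ (hZ.preimage (Points.continuous_ofPt _))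

/-- An integral map with dense image is surjective. -/
theorem surjective_of_dense {Y : Sp S} (hY : IsAlgSpace Y) {V : Over S} {ν : (yon S).obj V ⟶ Y}
    (hν : RepWith @IsIntegralHom ν) (hd : Dense (Set.range (Points.ofPt ν))) :
    RepWith @Surjective ν := by
  refine Core.repWith_surjective_of_surjective hν.rep fun y => ?_
  have hcl : IsClosed (Set.range (Points.ofPt ν)) := by
    have := (isClosedMap_map hY hν).isClosed_range
    rwa [Core.range_points_map_yon] at this
  exact (hcl.closure_eq ▸ hd.closure_eq).ge (Set.mem_univ y)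

end Groth.Agent.Lib.AlgSpNormCover
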