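import Mathlib.AlgebraicGeometry.Morphisms.Finite
import Mathlib.AlgebraicGeometry.Morphisms.Etale
import Mathlib.RingTheory.TotallySplit
import Mathlib.RingTheory.Finiteness.ModuleFinitePresentation
import Mathlib.RingTheory.Spectrum.Prime.FreeLocus
import Mathlib.AlgebraicGeometry.Limits

/-!
# Splitting finite etale covers of connected affine schemes
-/

universe u

open CategoryTheory CategoryTheory.Limits AlgebraicGeometry TensorProduct

namespace Groth.Agent.Lib.AlgSpNormCover

/-- A ring map from a finite power of `T` to a domain factors through a projection. -/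
theorem exists_factor_eval {T k : Type u} [CommRing T] [CommRing k] [IsDomain k] {n : ℕ}
    (ψ : (Fin n → T) →+* k) : ∃ i, ∀ v, ψ v = ψ (algebraMap T (Fin n → T) (v i)) := by
  classical
  obtain ⟨i, hi⟩ : ∃ i, ψ (Pi.single i 1) ≠ 0 := by
    by_contra h
    push Not at h
    have h1 : (1 : Fin n → T) = ∑ j, Pi.single j 1 := by
      rw [Finset.univ_sum_single (fun _ => (1 : T))]
      rfl
    exact one_ne_zero (α := k) (by rw [← map_one ψ, h1, map_sum, Finset.sum_eq_zero fun j _ => h j])
  have hid : ψ (Pi.single i 1) = 1 := by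
    have : IsIdempotentElem (ψ (Pi.single i 1)) := by
      rw [IsIdempotentElem, ← map_mul]
      congr 1
      funext j
      by_cases h : j = i <;> simp [h]
    exact (IsIdempotentElem.iff_eq_zero_or_one.1 this).resolve_left hi
  refine ⟨i, fun v => ?_⟩
  have h : v * Pi.single i 1 = algebraMap T (Fin n → T) (v i) * Pi.single i 1 := by
    funext j
    by_cases h : j = i
    · subst h; simp
    · simp [h]
  have := congrArg ψ h
  rwa [map_mul, map_mul, hid, mul_one, mul_one] at this

/-- A finite etale scheme over a connected affine scheme is split by a finite etale surjection. -/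
theorem exists_splitting {D P : Scheme.{u}} [IsAffine D] [PreconnectedSpace D] (f : P ⟶ D)
    [IsFinite f] [Etale f] :
    ∃ (W : Scheme.{u}) (p : W ⟶ D) (ι : Type u) (_ : Finite ι) (σ : ι → (W ⟶ P)),
      IsAffine W ∧ IsFinite p ∧ Etale p ∧ Surjective p ∧ (∀ i, σ i ≫ f = p) ∧
      ∀ (k : Type u) [Field k] (a : Spec (CommRingCat.of k) ⟶ W) (b : Spec (CommRingCat.of k) ⟶ P),
        a ≫ p = b ≫ f → ∃ i, b = a ≫ σ i := by
  have : IsAffine P := isAffine_of_isAffineHom f
  let R : Type u := Γ(D, ⊤)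
  let A : Type u := Γ(P, ⊤)
  algebraize [f.appTop.hom]
  have hfin : f.appTop.hom.Finite := ((HasAffineProperty.iff_of_isAffine (P := @IsFinite)).1 ‹IsFinite f›).2
  have het : f.appTop.hom.Etale := (HasRingHomProperty.iff_of_isAffine (P := @Etale)).1 ‹Etale f›
  have : Module.Finite R A := hfin
  have : Algebra.Etale R A := het
  have hPre : PreconnectedSpace (PrimeSpectrum R) :=
    D.isoSpec.hom.homeomorph.surjective.denseRange.preconnectedSpace D.isoSpec.hom.continuous
  obtain ⟨n, hn⟩ : ∃ n : ℕ, Module.rankAtStalk (R := R) A = n := by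
    rcases isEmpty_or_nonempty (PrimeSpectrum R) with h | ⟨⟨x⟩⟩
    · exact ⟨0, funext fun p => (IsEmpty.false p).elim⟩
    · have : Module.FinitePresentation R A := Module.FinitePresentation.of_finite_of_finitePresentation R A
      exact ⟨Module.rankAtStalk (R := R) A x, funext fun p =>
        Module.isLocallyConstant_rankAtStalk.apply_eq_of_preconnectedSpace p x⟩
  obtain ⟨T, _, _, hff, hTfin, hTet, hsplit⟩ := Algebra.IsFiniteSplit.exists_tensorProduct_of_etale hn
  obtain ⟨m, ⟨e⟩⟩ := hsplit.nonempty_algEquiv_fun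
  let p : Spec (CommRingCat.of T) ⟶ D := Spec.map (CommRingCat.ofHom (algebraMap R T)) ≫ D.isoSpec.inv
  let ev : Fin m → (T ⊗[R] A →+* T) := fun i => (Pi.evalRingHom (fun _ : Fin m => T) i).comp e.toRingEquiv.toRingHom
  let χ : Fin m → (A →+* T) := fun i =>
    (ev i).comp (Algebra.TensorProduct.includeRight (R := R) (A := T) (B := A)).toRingHom
  let σ : Fin m → (Spec (CommRingCat.of T) ⟶ P) := fun i =>
    Spec.map (CommRingCat.ofHom (χ i)) ≫ P.isoSpec.inv
  have hev : ∀ i t, ev i (t ⊗ₜ[R] 1) = t := fun i t => by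
    show e (t ⊗ₜ[R] 1) i = t
    rw [show t ⊗ₜ[R] (1 : A) = algebraMap T (T ⊗[R] A) t from rfl, e.commutes]
    rfl
  have hχ : ∀ i r, χ i (algebraMap R A r) = algebraMap R T r := fun i r => by
    show ev i ((1 : T) ⊗ₜ[R] algebraMap R A r) = _
    rw [Algebra.algebraMap_eq_smul_one, ← TensorProduct.smul_tmul, hev]
    rw [Algebra.smul_def, mul_one]
  have hnat : Spec.map f.appTop ≫ D.isoSpec.inv = P.isoSpec.inv ≫ f := by
    rw [Scheme.isoSpec_inv_naturality]
  refine ⟨Spec (CommRingCat.of T), p, ULift (Fin m), inferInstance, fun i => σ i.down, inferInstance,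
    ?_, ?_, ?_, fun i => ?_, fun k _ a b hab => ?_⟩
  · have : IsFinite (Spec.map (CommRingCat.ofHom (algebraMap R T))) :=
      (IsFinite.SpecMap_iff _).2 (RingHom.finite_algebraMap.2 hTfin)
    infer_instance
  · have : Etale (Spec.map (CommRingCat.ofHom (algebraMap R T))) :=
      (HasRingHomProperty.Spec_iff (P := @Etale)).2 (RingHom.etale_algebraMap.2 hTet)
    infer_instance
  · have : Surjective (Spec.map (CommRingCat.ofHom (algebraMap R T))) :=
      ⟨PrimeSpectrum.comap_surjective_of_faithfullyFlat⟩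
    infer_instance
  · show (Spec.map (CommRingCat.ofHom (χ i.down)) ≫ P.isoSpec.inv) ≫ f = p
    rw [Category.assoc, ← hnat, ← Spec.map_comp_assoc]
    refine congrArg (fun φ => Spec.map φ ≫ D.isoSpec.inv) (CommRingCat.hom_ext (RingHom.ext fun r => hχ i.down r))
  · obtain ⟨α, hα⟩ := Spec.map_surjective a
    obtain ⟨β, hβ⟩ := Spec.map_surjective (b ≫ P.isoSpec.hom)
    have hb : b = Spec.map β ≫ P.isoSpec.inv := by rw [hβ, Category.assoc, Iso.hom_inv_id, Category.comp_id]
    have hcomp : ∀ r, α.hom (algebraMap R T r) = β.hom (algebraMap R A r) := by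
      have h1 := hab
      rw [← hα, hb, Category.assoc, ← hnat, ← Spec.map_comp_assoc, ← Spec.map_comp_assoc] at h1
      have h2 := Spec.map_injective ((cancel_mono D.isoSpec.inv).1 h1)
      exact fun r => congrArg (fun φ => φ.hom r) h2
    let : Algebra R k := (α.hom.comp (algebraMap R T)).toAlgebra
    let α' : T →ₐ[R] k := { α.hom with commutes' := fun _ => rfl }
    let β' : A →ₐ[R] k := { β.hom with commutes' := fun r => (hcomp r).symm }
    let ψ₀ : T ⊗[R] A →ₐ[R] k := Algebra.TensorProduct.lift α' β' fun _ _ => Commute.all _ _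
    obtain ⟨i, hi⟩ := exists_factor_eval (k := k) (ψ₀.toRingHom.comp e.symm.toRingEquiv.toRingHom)
    refine ⟨⟨i⟩, ?_⟩
    show b = a ≫ Spec.map (CommRingCat.ofHom (χ i)) ≫ P.isoSpec.inv
    rw [hb, ← hα, ← Spec.map_comp_assoc]
    refine congrArg (fun φ => Spec.map φ ≫ P.isoSpec.inv) (CommRingCat.hom_ext (RingHom.ext fun s => ?_))
    have h1 := hi (e ((1 : T) ⊗ₜ[R] s))
    have h2 : ψ₀ (e.symm (e ((1 : T) ⊗ₜ[R] s))) = β.hom s := by
      rw [AlgEquiv.symm_apply_apply, Algebra.TensorProduct.lift_tmul, map_one, one_mul]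
      rfl
    have h3 : ψ₀ (e.symm (algebraMap T (Fin m → T) (e ((1 : T) ⊗ₜ[R] s) i))) =
        α.hom (e ((1 : T) ⊗ₜ[R] s) i) := by
      rw [AlgEquiv.commutes, Algebra.TensorProduct.algebraMap_apply]
      show ψ₀ (_ ⊗ₜ[R] (1 : A)) = _
      rw [Algebra.TensorProduct.lift_tmul, map_one, mul_one]
      rfl
    exact h2.symm.trans (h1.trans h3)

end Groth.Agent.Lib.AlgSpNormCover
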