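import Groth.Agent.Lib.AlgSpNormCover.Exists
import Groth.Agent.Lib.AlgSpNormCover.FiniteEtale
import Groth.Agent.Lib.AlgSpDecent.DenseOpen
import Groth.Agent.Lib.AlgSpDecent.GenericFinite
import Groth.Agent.Lib.AlgSpDecent.Birat
import Groth.Agent.Lib.AlgSpDecent.QS
import Groth.Agent.Lib.AlgSpMor.Codim
import Groth.Agent.Lib.QfhGalois.Basic

/-!
# Generic finite etale trivialisations
-/

universe u

open CategoryTheory CategoryTheory.Limits AlgebraicGeometry Opposite Topology

namespace Groth.Agent.Lib.AlgSpNormCover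

open AlgSp Groth.Agent.Lib.AlgSpace Groth.Agent.Lib.AlgSpMor Groth.Agent.Lib.AlgSpMor.RelNorm
  Groth.Agent.Lib.AlgSpDecent

variable {S : Scheme.{u}}

theorem isSeparated_of_isPullback {X : Sp S} {W T U : Over S} [W.left.IsSeparated] [T.left.IsSeparated]
    {g : (yon S).obj W ⟶ X} {b : (yon S).obj T ⟶ X} {σ : U ⟶ W} {m : U ⟶ T}
    (sq : IsPullback ((yon S).map σ) ((yon S).map m) g b) : U.left.IsSeparated := by
  let j : U.left ⟶ pullback (terminal.from W.left) (terminal.from T.left) :=
    pullback.lift σ.left m.left (Subsingleton.elim _ _)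
  have : Mono j := ⟨fun {Z} t t' e => by
    have e1 : t ≫ σ.left = t' ≫ σ.left := by
      have := congrArg (· ≫ pullback.fst _ _) e
      simp only [j, Category.assoc] at this
      rwa [pullback.lift_fst] at this
    have e2 : t ≫ m.left = t' ≫ m.left := by
      have := congrArg (· ≫ pullback.snd _ _) e
      simp only [j, Category.assoc] at this
      rwa [pullback.lift_snd] at this
    have e3 : t' ≫ U.hom = t ≫ U.hom := by rw [← Over.w σ, reassoc_of% e1]
    let t₁ : Over.mk (t ≫ U.hom) ⟶ U := Over.homMk t rfl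
    let t₂ : Over.mk (t ≫ U.hom) ⟶ U := Over.homMk t' e3
    have : t₁ = t₂ := (yon S).map_injective (sq.hom_ext
      (by rw [← Functor.map_comp, ← Functor.map_comp]; exact congrArg _ (Over.OverMorphism.ext e1))
      (by rw [← Functor.map_comp, ← Functor.map_comp]; exact congrArg _ (Over.OverMorphism.ext e2)))
    exact congrArg Over.Hom.left this⟩
  refine ⟨?_⟩
  rw [show terminal.from U.left = j ≫ pullback.fst _ _ ≫ terminal.from W.left from
    Subsingleton.elim _ _]
  infer_instance

theorem exists_sigmaι_eq {ι : Type u} (X : ι → Scheme.{u}) (x : ↥(∐ X)) :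
    ∃ (i : ι) (y : ↥(X i)), Sigma.ι X i y = x := by
  obtain ⟨i, y, hy⟩ := (sigmaOpenCover X).exists_eq x
  exact ⟨i, y, hy⟩

theorem isClosedImmersion_sigmaι {ι : Type u} (X : ι → Scheme.{u}) (i : ι) :
    IsClosedImmersion (Sigma.ι X i) := by
  refine IsClosedImmersion.of_isPreimmersion _ ?_
  rw [← isOpen_compl_iff]
  have : (Set.range (Sigma.ι X i))ᶜ = ⋃ j ∈ {j | j ≠ i}, Set.range (Sigma.ι X j) := by
    ext x
    obtain ⟨j, y, rfl⟩ := exists_sigmaι_eq _ x
    simp only [Set.mem_compl_iff, Set.mem_iUnion, Set.mem_setOf_eq]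
    constructor
    · intro h
      exact ⟨j, fun e => h (e ▸ ⟨y, rfl⟩), y, rfl⟩
    · rintro ⟨j', hj', y', hy'⟩ hmem
      have h1 := disjoint_opensRange_sigmaι X j' i hj'
      exact (disjoint_iff.1 h1).le (show Sigma.ι X j y ∈ (Sigma.ι X j').opensRange ⊓ (Sigma.ι X i).opensRange
        from ⟨⟨y', hy'⟩, hmem⟩)
  rw [this]
  exact isOpen_biUnion fun j _ => (Sigma.ι X j).isOpenEmbedding.isOpen_range

/-- Over a dense open of a quasi-separated space with finitely many components an affine etale chart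
is split by a finite etale surjection. -/
theorem exists_generic_splitting [QuasiSeparatedSpace ↥S] {X : Sp S} (hX : IsAlgSpace X)
    (hqs : IsQuasiSeparatedSp X) (hirr : (irreducibleComponents (Points X)).Finite)
    {T : Over S} [IsAffine T.left]
    {b : (yon S).obj T ⟶ X} (hb : RepWith @Etale b) :
    ∃ (U₀ W U : Over S) (j : (yon S).obj U₀ ⟶ X) (π : W ⟶ U₀) (σ : U ⟶ W) (m : U ⟶ T),
      IsAffine W.left ∧ IsAffine U₀.left ∧ RepWith @IsOpenImmersion j ∧
      Dense (Set.range (Points.map j)) ∧ IsFinite π.left ∧ Etale π.left ∧ Surjective π.left ∧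
      IsPullback ((yon S).map σ) ((yon S).map m) ((yon S).map π ≫ j) b ∧
      ∀ z : ↥U.left, ∃ O : U.left.Opens, z ∈ O ∧ IsClosed (O : Set ↥U.left) ∧ Mono (O.ι ≫ σ.left) := by
  classical
  have hd := QS.isDecent_of_isQuasiSeparatedSp hX hqs
  obtain ⟨G, g₀, hg₀, hg₀d⟩ := DenseOpen.exists_dense_open hX hd
  have hGfin := Birat.finite_components hX hd hirr hg₀
  let H := {η : ↥G.left // Codim.IsGen η}
  have hHfin : Finite H := by
    have : Finite ↥(irreducibleComponents ↥G.left) := hGfin.to_subtype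
    refine Finite.of_injective (fun η : H => (⟨closure {η.1}, ?_⟩ : ↥(irreducibleComponents ↥G.left))) ?_
    · refine ⟨isIrreducible_singleton.closure, fun Z hZ hle => ?_⟩
      have hg := hZ.isGenericPoint_genericPoint_closure
      have h1 : hZ.genericPoint ⤳ η.1 := hg.specializes (subset_closure (hle (subset_closure rfl)))
      rw [← η.2 _ h1]
      exact subset_closure.trans hg.symm.subset
    · intro η η' h
      have h' : closure {η.1} = closure {η'.1} := congrArg Subtype.val h
      exact Subtype.ext (η'.2 _ (specializes_iff_mem_closure.2 (h' ▸ subset_closure rfl)))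
  have hgen : ∀ x : ↥G.left, ∃ η : H, η.1 ⤳ x := fun x => by
    have hi := irreducibleComponent_mem_irreducibleComponents x
    have hg := hi.1.isGenericPoint_genericPoint (isClosed_of_mem_irreducibleComponents _ hi)
    refine ⟨⟨hi.1.genericPoint, fun y hy => ?_⟩, hg.specializes mem_irreducibleComponent⟩
    have h1 : irreducibleComponent x ⊆ closure {y} := hg.symm.subset.trans
      (closure_minimal (Set.singleton_subset_iff.2 hy.mem_closure) isClosed_closure)
    exact IsGenericPoint.eq (subset_antisymm (hi.2 isIrreducible_singleton.closure h1) h1) hg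
  have hqcb : RepWith @QuasiCompact b :=
    (QC.repWith_quasiCompact_iff (hX.representable_from_yon b)).2 (qcqs_of_affine hX hqs b).1
  have key : ∀ η : H, ∃ (Z : Over S) (k : Z ⟶ G) (W : Over S) (p : W ⟶ Z),
      IsAffine Z.left ∧ IsAffine W.left ∧ IsOpenImmersion k.left ∧ η.1 ∈ Set.range k.left ∧
      (∀ η' : H, η'.1 ∈ Set.range k.left → η' = η) ∧ IsFinite p.left ∧ Etale p.left ∧ Surjective p.left ∧
      ∃ (ι : Type u) (s : ι → (W ⟶ T)), (∀ i, (yon S).map (s i) ≫ b = (yon S).map (p ≫ k) ≫ g₀) ∧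
        ∀ (K : Type u) [Field K] (str : Spec (CommRingCat.of K) ⟶ S) (a : Over.mk str ⟶ W) (t : Over.mk str ⟶ T),
          (yon S).map (a ≫ p ≫ k) ≫ g₀ = (yon S).map t ≫ b → ∃ i, t = a ≫ s i := by
    intro η
    let O : G.left.Opens := ⟨(⋃ η' ∈ {η' : H | η' ≠ η}, closure {η'.1})ᶜ,
      ((Set.toFinite _).isClosed_biUnion fun _ _ => isClosed_closure).isOpen_compl⟩
    have hηO : η.1 ∈ O := by
      intro h
      obtain ⟨η', hne, h'⟩ := Set.mem_iUnion₂.1 h
      exact hne (Subtype.ext (η.2 _ (specializes_iff_mem_closure.2 h')))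
    obtain ⟨V, hV, hηV, hVO⟩ := exists_isAffineOpen_mem_and_subset (U := O) hηO
    let V' : Over S := Over.mk (V.ι ≫ G.hom)
    let kV : V' ⟶ G := Over.homMk V.ι rfl
    have : IsAffine V'.left := hV
    obtain ⟨P, p₁, p₂, sqP⟩ := exists_isPullback_yon hX.diag b ((yon S).map kV ≫ g₀)
    have hp₂ : Etale p₂.left := repWith_property hb sqP
    have : QuasiCompact p₂.left := repWith_property hqcb sqP
    have : P.left.IsSeparated := isSeparated_of_isPullback sqP
    have : IsSeparated (p₂.left ≫ terminal.from V'.left) := by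
      rw [show p₂.left ≫ terminal.from V'.left = terminal.from P.left from Subsingleton.elim _ _]
      infer_instance
    have : IsSeparated p₂.left := IsSeparated.of_comp p₂.left (terminal.from V'.left)
    have : LocallyQuasiFinite p₂.left := Fibre.locallyQuasiFinite_of_etale p₂.left
    have hmin : ∀ y : ↥V'.left, y ⤳ ⟨η.1, hηV⟩ → y = ⟨η.1, hηV⟩ := fun y hy =>
      Subtype.ext (η.2 _ (hy.map continuous_subtype_val))
    obtain ⟨D, hD, hηD, hfin⟩ := GenericFinite.exists_isFinite p₂.left hmin
    let Z : Over S := Over.mk (D.ι ≫ V'.hom)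
    let kD : Z ⟶ V' := Over.homMk D.ι rfl
    have : IsAffine Z.left := hD
    have hpre : PreconnectedSpace ↥Z.left := by
      refine ⟨?_⟩
      have h1 : ∀ x : ↥Z.left, (⟨⟨η.1, hηV⟩, hηD⟩ : ↥Z.left) ⤳ x := fun x => by
        obtain ⟨η', hη'⟩ := hgen x.1.1
        have hx : η'.1 ∈ O := hη'.mem_open O.isOpen (hVO x.1.2)
        obtain rfl : η' = η := by
          by_contra hne
          exact hx (Set.mem_biUnion hne (subset_closure rfl))
        rw [subtype_specializes_iff]
        exact (subtype_specializes_iff _ _).2 hη'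
      exact (isPreconnected_singleton (x := (⟨⟨η.1, hηV⟩, hηD⟩ : ↥Z.left))).subset_closure
        (Set.subset_univ _) fun x _ => (h1 x).mem_closure
    have : Etale (p₂.left ∣_ D) := IsZariskiLocalAtTarget.restrict hp₂ D
    obtain ⟨W₀, p, ι, hι, σ, hW₀, hpf, hpe, hps, hσ, hsplit⟩ := exists_splitting (D := Z.left) (p₂.left ∣_ D)
    let W : Over S := Over.mk (p ≫ Z.hom)
    let pW : W ⟶ Z := Over.homMk p rfl
    let q : ι → (W.left ⟶ P.left) := fun i => σ i ≫ (p₂.left ⁻¹ᵁ D).ι
    have hq : ∀ i, q i ≫ p₂.left = p ≫ D.ι := fun i => by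
      simp only [q, Category.assoc]
      rw [← morphismRestrict_ι, ← Category.assoc, hσ]
    let qW : ι → (W ⟶ P) := fun i => Over.homMk (q i) (by
      show q i ≫ P.hom = p ≫ D.ι ≫ V'.hom
      rw [← Over.w p₂, ← Category.assoc, hq, Category.assoc])
    have hqW : ∀ i, qW i ≫ p₂ = pW ≫ kD := fun i => Over.OverMorphism.ext (hq i)
    refine ⟨Z, kD ≫ kV, W, pW, hD, hW₀, inferInstanceAs (IsOpenImmersion (D.ι ≫ V.ι)),
      ⟨⟨⟨η.1, hηV⟩, hηD⟩, rfl⟩, fun η' hη' => ?_, hpf, hpe, hps, ι, fun i => qW i ≫ p₁, fun i => ?_,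
      fun K _ str a t h => ?_⟩
    · obtain ⟨x, hx⟩ := hη'
      by_contra hne
      have : η'.1 ∈ O := hx ▸ hVO x.1.2
      exact this (Set.mem_biUnion hne (subset_closure rfl))
    · rw [Functor.map_comp, Category.assoc, sqP.w, ← Functor.map_comp_assoc, hqW,
        ← Functor.map_comp_assoc, Category.assoc]
    · obtain ⟨l, hl⟩ := (yon S).map_surjective (sqP.lift ((yon S).map t) ((yon S).map (a ≫ pW ≫ kD))
        (by rw [← h]; simp only [Functor.map_comp, Category.assoc]))
      have l1 : l ≫ p₁ = t := (yon S).map_injective (by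
        rw [Functor.map_comp, hl]; exact sqP.lift_fst _ _ _)
      have l2 : l ≫ p₂ = a ≫ pW ≫ kD := (yon S).map_injective (by
        rw [Functor.map_comp, hl]; exact sqP.lift_snd _ _ _)
      have hr : Set.range l.left ⊆ Set.range (p₂.left ⁻¹ᵁ D).ι := by
        rw [Scheme.Opens.range_ι]
        rintro _ ⟨x, rfl⟩
        show p₂.left (l.left x) ∈ D
        rw [← Scheme.Hom.comp_apply, ← Over.comp_left, l2]
        exact (pW.left (a.left x)).2
      let l' := IsOpenImmersion.lift _ l.left hr
      have hl' : l' ≫ (p₂.left ⁻¹ᵁ D).ι = l.left := IsOpenImmersion.lift_fac _ _ _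
      obtain ⟨i, hi⟩ := hsplit K a.left l' (by
        rw [← cancel_mono D.ι, Category.assoc, Category.assoc, morphismRestrict_ι, reassoc_of% hl',
          ← Over.comp_left, l2]
        rfl)
      refine ⟨i, ?_⟩
      have : l = a ≫ qW i := Over.OverMorphism.ext (by
        rw [← hl', hi, Category.assoc]; rfl)
      rw [← l1, this, Category.assoc]
  choose Z k W p hZ hW hk hkη hkuniq hpf hpe hps ι s hs hsplit using key
  let U₀ : Over S := Over.mk (Sigma.desc fun η => (k η).left ≫ G.hom)
  let Wt : Over S := Over.mk (Sigma.desc fun η => (W η).hom)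
  have hkdisj : Pairwise (fun η η' => Disjoint (Set.range (k η).left) (Set.range (k η').left)) := by
    intro η η' hne
    rw [Set.disjoint_left]
    rintro x hx hx'
    obtain ⟨θ, hθ⟩ := hgen x
    have h1 := hkuniq η θ (hθ.mem_open (k η).left.isOpenEmbedding.isOpen_range hx)
    have h2 := hkuniq η' θ (hθ.mem_open (k η').left.isOpenEmbedding.isOpen_range hx')
    exact hne (h1.symm.trans h2)
  let kk : U₀ ⟶ G := Over.homMk (Sigma.desc fun η => (k η).left) (by
    apply Sigma.hom_ext
    intro η
    show Sigma.ι _ η ≫ Sigma.desc (fun η => (k η).left) ≫ G.hom = _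
    simp [U₀])
  have hkk : IsOpenImmersion kk.left :=
    isOpenImmersion_sigmaDesc _ _ hkdisj
  let π : Wt ⟶ U₀ := Over.homMk (Sigma.desc fun η => (p η).left ≫ Sigma.ι (fun η => (Z η).left) η) (by
    apply Sigma.hom_ext
    intro η
    show Sigma.ι _ η ≫ Sigma.desc _ ≫ U₀.hom = _
    rw [Sigma.ι_desc_assoc, Category.assoc]
    simp [U₀, Wt])
  have hπf : IsFinite π.left := QfhGalois.isFinite_sigmaDesc _ fun η => by
    have := isClosedImmersion_sigmaι (fun η => (Z η).left) η
    have := hpf η
    infer_instance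
  have hπe : Etale π.left := IsZariskiLocalAtSource.sigmaDesc (P := @Etale) fun η => by
    have := hpe η
    infer_instance
  have hπs : Surjective π.left := ⟨fun x => by
    obtain ⟨η, y, rfl⟩ := exists_sigmaι_eq _ x
    obtain ⟨w, rfl⟩ := (hps η).surj y
    refine ⟨Sigma.ι (fun η => (W η).left) η w, ?_⟩
    have e : Sigma.ι (fun η => (W η).left) η ≫ π.left = (p η).left ≫ Sigma.ι (fun η => (Z η).left) η :=
      Sigma.ι_desc _ _
    exact congrArg (fun f : (W η).left ⟶ U₀.left => f w) e⟩
  have hWaff : IsAffine Wt.left := inferInstanceAs (IsAffine (∐ fun η => (W η).left))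
  have hUaff : IsAffine U₀.left := inferInstanceAs (IsAffine (∐ fun η => (Z η).left))
  let j : (yon S).obj U₀ ⟶ X := (yon S).map kk ≫ g₀
  have hj : RepWith @IsOpenImmersion j :=
    repWith_comp ((AlgSp.repWith_yon_map_iff _ kk).2 hkk) hg₀
  have hdense : Dense (Set.range (Points.map j)) := by
    refine dense_iff_inter_open.2 fun O hO hne => ?_
    obtain ⟨_, hxO, x, rfl⟩ := dense_iff_inter_open.1 hg₀d O hO hne
    obtain ⟨x', rfl⟩ := (Points.schemeEquiv G).surjective x
    obtain ⟨η, hη⟩ := hgen x'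
    obtain ⟨z, hz⟩ := hkη η
    refine ⟨Points.ofPt g₀ η.1, (hη.map (Points.continuous_ofPt g₀)).mem_open hO
      (by rw [← Core.map_ofScheme]; exact hxO), Points.ofScheme U₀ (Sigma.ι (fun η => (Z η).left) η z), ?_⟩
    rw [Core.map_ofScheme, Core.ofPt_map_comp]
    refine congrArg _ ?_
    show (Sigma.desc fun η => (k η).left) _ = _
    rw [← Scheme.Hom.comp_apply, Sigma.ι_desc]
    exact hz
  obtain ⟨U, σ, m, sq⟩ := exists_isPullback_yon hX.diag ((yon S).map π ≫ j) b
  have : U.left.IsSeparated := isSeparated_of_isPullback sq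
  have hσ : Etale σ.left := repWith_property hb sq.flip
  refine ⟨U₀, Wt, U, j, π, σ, m, hWaff, hUaff, hj, hdense, hπf, hπe, hπs, sq, fun z => ?_⟩
  obtain ⟨η, w, hw⟩ := exists_sigmaι_eq _ (σ.left z)
  let inW : W η ⟶ Wt := Over.homMk (Sigma.ι (fun η => (W η).left) η) (by simp [Wt])
  have hin : inW ≫ π ≫ kk = p η ≫ k η := Over.OverMorphism.ext (by
    show Sigma.ι (fun η => (W η).left) η ≫ π.left ≫ kk.left = (p η).left ≫ (k η).left
    simp [π, kk, U₀])
  let φ := U.left.fromSpecResidueField z
  let str := φ ≫ U.hom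
  let φ' : Over.mk str ⟶ U := Over.homMk φ rfl
  have : IsClosedImmersion inW.left := isClosedImmersion_sigmaι (fun η => (W η).left) η
  have : IsOpenImmersion inW.left := inferInstanceAs (IsOpenImmersion (Sigma.ι (fun η => (W η).left) η))
  have hr : Set.range (φ ≫ σ.left) ⊆ Set.range inW.left := by
    rintro _ ⟨x, rfl⟩
    exact ⟨w, hw.trans (congrArg σ.left (Scheme.fromSpecResidueField_apply (X := U.left) z x).symm)⟩
  let a₀ := IsOpenImmersion.lift inW.left (φ ≫ σ.left) hr
  have ha₀ : a₀ ≫ inW.left = φ ≫ σ.left := IsOpenImmersion.lift_fac _ _ _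
  let a : Over.mk str ⟶ W η := Over.homMk a₀ (by
    show a₀ ≫ (W η).hom = φ ≫ U.hom
    rw [← Over.w inW, reassoc_of% ha₀, Over.w σ])
  have ha : a ≫ inW = φ' ≫ σ := Over.OverMorphism.ext ha₀
  obtain ⟨i, hi⟩ := hsplit η (U.left.residueField z) str a (φ' ≫ m) (by
    rw [← hin, reassoc_of% ha]
    simp only [Functor.map_comp, Category.assoc]
    rw [← sq.w])
  obtain ⟨sU, hsU⟩ := (yon S).map_surjective (sq.lift ((yon S).map inW) ((yon S).map (s η i)) (by
    rw [hs, ← hin]; simp only [j, Functor.map_comp, Category.assoc]))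
  have s1 : sU ≫ σ = inW := (yon S).map_injective (by rw [Functor.map_comp, hsU]; exact sq.lift_fst _ _ _)
  have s2 : sU ≫ m = s η i := (yon S).map_injective (by rw [Functor.map_comp, hsU]; exact sq.lift_snd _ _ _)
  have hφ : φ' = a ≫ sU := (yon S).map_injective (sq.hom_ext
    (by rw [← Functor.map_comp, ← Functor.map_comp, Category.assoc, s1, ha])
    (by rw [← Functor.map_comp, ← Functor.map_comp, Category.assoc, s2, hi]))
  have s1' : sU.left ≫ σ.left = inW.left := congrArg Over.Hom.left s1
  have : IsSeparated σ.left := by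
    have : IsSeparated (σ.left ≫ terminal.from Wt.left) := by
      rw [show σ.left ≫ terminal.from Wt.left = terminal.from U.left from Subsingleton.elim _ _]
      infer_instance
    exact IsSeparated.of_comp σ.left (terminal.from Wt.left)
  have : IsClosedImmersion (sU.left ≫ σ.left) := by rw [s1']; infer_instance
  have : IsClosedImmersion sU.left := IsClosedImmersion.of_comp sU.left σ.left
  have : IsOpenImmersion (sU.left ≫ σ.left) := by rw [s1']; infer_instance
  have hse : Etale sU.left := EtaleMono.etale_of_comp sU.left σ.left (inferInstance : Etale (sU.left ≫ σ.left))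
  have : IsOpenImmersion sU.left := IsOpenImmersion.of_flat_of_mono sU.left
  refine ⟨sU.left.opensRange, ?_, sU.left.isClosedEmbedding.isClosed_range, ?_⟩
  · refine ⟨a.left (IsLocalRing.closedPoint _), ?_⟩
    rw [← Scheme.Hom.comp_apply, ← Over.comp_left, ← hφ]
    exact Scheme.fromSpecResidueField_apply _ _
  · have e : sU.left.opensRange.ι ≫ σ.left = sU.left.isoOpensRange.inv ≫ inW.left := by
      rw [← s1', ← Category.assoc, Scheme.Hom.isoOpensRange_inv_comp]
    rw [e]
    infer_instance

end Groth.Agent.Lib.AlgSpNormCover
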