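import Groth.Agent.Lib.AlgSpDecent.ZeroDim
import Groth.Agent.Lib.AlgSpDecent.Fibre
import Groth.Agent.H54.GeomLift
import Mathlib.AlgebraicGeometry.Morphisms.FlatMono
import Mathlib.FieldTheory.IsAlgClosed.Basic

/-!
# Etale covers of zero dimensional schemes with algebraically closed residue fields split
-/

universe u

open CategoryTheory CategoryTheory.Limits AlgebraicGeometry Topology

namespace Groth.Agent.Lib.AlgSpNormCover

open Groth.Agent.Lib.AlgSpDecent

/-- A product of algebraically closed fields is zero dimensional. -/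
theorem isMaximal_of_isPrime_pi {ι : Type u} (K : ι → Type u) [∀ i, Field (K i)]
    (P : Ideal (∀ i, K i)) [hP : P.IsPrime] : P.IsMaximal := by
  classical
  refine Ideal.isMaximal_iff.2 ⟨fun h => hP.ne_top ((Ideal.eq_top_iff_one _).2 h),
    fun J x hPJ hxP hxJ => ?_⟩
  let y : ∀ i, K i := fun i => (x i)⁻¹
  have h0 : x * (1 - x * y) = 0 := by
    funext i
    by_cases h : x i = 0
    · simp [h]
    · simp [y, h]
  have h1 : 1 - x * y ∈ P :=
    (hP.mem_or_mem (by rw [h0]; exact P.zero_mem)).resolve_left hxP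
  have : 1 - x * y + x * y ∈ J := J.add_mem (hPJ h1) (J.mul_mem_right _ hxJ)
  simpa using this

/-- The residue fields of a product of algebraically closed fields are algebraically closed. -/
theorem isAlgClosed_residueField_pi {ι : Type u} (K : ι → Type u) [∀ i, Field (K i)]
    [∀ i, IsAlgClosed (K i)] (x : ↥(Spec (CommRingCat.of (∀ i, K i)))) :
    IsAlgClosed ((Spec (CommRingCat.of (∀ i, K i))).residueField x) := by
  have := isMaximal_of_isPrime_pi K x.asIdeal
  let e := (Scheme.Spec.residueFieldIso (CommRingCat.of (∀ i, K i)) x).commRingCatIsoToRingEquiv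
  have hsurj : Function.Surjective (algebraMap (∀ i, K i) x.asIdeal.ResidueField) :=
    x.asIdeal.bijective_algebraMap_quotient_residueField.surjective.comp Ideal.Quotient.mk_surjective
  have : IsAlgClosed x.asIdeal.ResidueField := by
    refine IsAlgClosed.of_exists_root _ fun p hp hirr => ?_
    obtain ⟨q, hq, hdeg, hqm⟩ := Polynomial.lifts_and_degree_eq_and_monic
      ((Polynomial.lifts_iff_coeff_lifts p).2 fun n => hsurj _ : p ∈ Polynomial.lifts
        (algebraMap (∀ i, K i) x.asIdeal.ResidueField)) hp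
    have hd : 0 < p.natDegree := hirr.natDegree_pos
    have : ∀ i, ∃ r : K i, (q.map (Pi.evalRingHom K i)).eval r = 0 := fun i => by
      obtain ⟨r, hr⟩ := IsAlgClosed.exists_root (q.map (Pi.evalRingHom K i)) (by
        rw [Polynomial.degree_eq_natDegree (hqm.map _).ne_zero, hqm.natDegree_map,
          show q.natDegree = p.natDegree from Polynomial.natDegree_eq_of_degree_eq hdeg]
        exact_mod_cast hd.ne')
      exact ⟨r, hr⟩
    choose r hr using this
    refine ⟨algebraMap _ _ r, ?_⟩
    have h0 : q.eval r = 0 := funext fun i => by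
      have h := hr i
      rw [Polynomial.eval_map] at h
      have h' := Polynomial.hom_eval₂ q (RingHom.id (∀ i, K i)) (Pi.evalRingHom K i) r
      rw [RingHom.comp_id] at h'
      exact h'.trans h
    rw [← hq, Polynomial.eval_map_apply, h0, map_zero]
  exact IsAlgClosed.of_ringEquiv _ _ e.symm

/-- The minimality of points of an etale scheme over a zero dimensional scheme. -/
theorem eq_of_specializes {U W : Scheme.{u}} (σ : U ⟶ W) [LocallyQuasiFinite σ]
    (hW : ∀ x y : W, y ⤳ x → y = x) (x y : U) (h : y ⤳ x) : y = x :=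
  (σ.isDiscrete_preimage_singleton (σ x)).eq_of_specializes h (hW _ _ (h.map σ.continuous)) rfl

/-- An etale separated map to a zero dimensional scheme with algebraically closed residue fields is a
monomorphism on a clopen neighbourhood of every point. -/
theorem exists_clopen_mono {U W : Scheme.{u}} (σ : U ⟶ W) [Etale σ] [U.IsSeparated] [CompactSpace U]
    [IsAffineHom (terminal.from W)] (hW : ∀ x y : W, y ⤳ x → y = x)
    (hk : ∀ w : W, IsAlgClosed (W.residueField w)) (z : U) :
    ∃ (O : U.Opens), z ∈ O ∧ IsClosed (O : Set U) ∧ Mono (O.ι ≫ σ) := by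
  have : LocallyQuasiFinite σ := Fibre.locallyQuasiFinite_of_etale σ
  have hmin := eq_of_specializes σ hW
  have hU : IsAffineOpen (⊤ : U.Opens) := ZeroDim.isAffineOpen_of_isCompact hmin ⊤
    (by simpa using isCompact_univ (X := U))
  have hclopen : ∀ O : U.Opens, IsCompact (O : Set U) → IsClosed (O : Set U) := fun O hO => by
    have hr : Set.range (⊤ : U.Opens).ι = Set.univ := by simp
    have hemb : IsClosedEmbedding (⊤ : U.Opens).ι :=
      ⟨(⊤ : U.Opens).ι.isOpenEmbedding.isEmbedding, by rw [hr]; exact isClosed_univ⟩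
    have h1 := hemb.isClosedMap _ (ZeroDim.isAffineOpen_sup hmin hU hO)
    rwa [Set.image_preimage_eq_inter_range, hr, Set.inter_univ] at h1
  have hsep : ∀ x y : U, x ≠ y → ∃ O : U.Opens, IsClosed (O : Set U) ∧ x ∈ O ∧ y ∉ O := by
    intro x y hxy
    have hny : ¬ x ⤳ y := fun h => hxy (hmin _ _ h)
    have hnx : ¬ y ⤳ x := fun h => hxy (hmin _ _ h).symm
    obtain ⟨s, hs, hxs, hys⟩ := not_specializes_iff_exists_open.1 hnx
    obtain ⟨_, ⟨V, hV, rfl⟩, hxV, hVs⟩ :=
      U.isBasis_affineOpens.exists_subset_of_mem_open hxs hs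
    exact ⟨V, hclopen V hV.isCompact, hxV, fun h => hys (hVs h)⟩
  have : T2Space U := ⟨fun x y hxy => by
    obtain ⟨O, hO, hx, hy⟩ := hsep x y hxy
    exact ⟨O, (O : Set U)ᶜ, O.isOpen, hO.isOpen_compl, hx, hy, disjoint_compl_right⟩⟩
  have : IsAffine U := by
    have : IsAffine (⊤ : U.Opens).toScheme := hU
    exact IsAffine.of_isIso (Scheme.topIso U).inv
  have : IsAffine W := isAffine_of_isAffineHom (terminal.from W)
  let P := pullback σ σ
  let Δ := pullback.diagonal σ
  have : IsOpenImmersion Δ := inferInstance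
  have hΔ : IsCompact (Set.range Δ)ᶜ := by
    have : CompactSpace P := inferInstance
    exact Δ.isOpenEmbedding.isOpen_range.isClosed_compl.isCompact
  have hcont : Continuous fun ρ : P => (pullback.fst σ σ ρ, pullback.snd σ σ ρ) :=
    (pullback.fst σ σ).continuous.prodMk (pullback.snd σ σ).continuous
  have hK := (hΔ.image hcont).isClosed
  have hz : (z, z) ∉ (fun ρ : P => (pullback.fst σ σ ρ, pullback.snd σ σ ρ)) '' (Set.range Δ)ᶜ := by
    rintro ⟨ρ, hρ, heq⟩
    simp only [Prod.mk.injEq] at heq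
    obtain ⟨h1, h2⟩ := heq
    let φ := P.fromSpecResidueField ρ
    have key : ∀ (s : P ⟶ U), s ρ = z → ∃ e : U.residueField z ⟶ P.residueField ρ,
        φ ≫ s = Spec.map e ≫ U.fromSpecResidueField z := by
      intro s hs
      subst hs
      exact ⟨s.residueFieldMap ρ, (Scheme.Hom.SpecMap_residueFieldMap_fromSpecResidueField s ρ).symm⟩
    obtain ⟨e₁, he₁⟩ := key _ h1
    obtain ⟨e₂, he₂⟩ := key _ h2
    have hσ : φ ≫ pullback.fst σ σ ≫ σ = φ ≫ pullback.snd σ σ ≫ σ := by rw [pullback.condition]
    rw [reassoc_of% he₁, reassoc_of% he₂,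
      ← Scheme.Hom.SpecMap_residueFieldMap_fromSpecResidueField σ z, ← Spec.map_comp_assoc,
      ← Spec.map_comp_assoc, cancel_mono, Spec.map_inj] at hσ
    have hbij : Function.Bijective (σ.residueFieldMap z).hom := by
      have := hk (σ z)
      have hfin := H54.GeomLift.residueFieldMap_finite σ z
      algebraize [(σ.residueFieldMap z).hom]
      exact IsAlgClosed.algebraMap_bijective_of_isIntegral
        (k := W.residueField (σ z)) (K := U.residueField z)
    have : IsIso (σ.residueFieldMap z) := (ConcreteCategory.isIso_iff_bijective _).2 hbij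
    obtain rfl : e₁ = e₂ := (cancel_epi (σ.residueFieldMap z)).1 hσ
    have hφ : φ = (φ ≫ pullback.fst σ σ) ≫ Δ := by
      apply pullback.hom_ext
      · simp [Δ]
      · simp only [Δ, Category.assoc, pullback.diagonal_snd, Category.comp_id]
        rw [he₁, he₂]
    refine hρ ⟨(φ ≫ pullback.fst σ σ) (IsLocalRing.closedPoint _), ?_⟩
    rw [← Scheme.Hom.comp_apply, ← hφ]
    exact Scheme.fromSpecResidueField_apply _ _
  obtain ⟨A, B, hA, hB, hzA, hzB, hAB⟩ := isOpen_prod_iff.1 hK.isOpen_compl z z hz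
  obtain ⟨_, ⟨O, hO, rfl⟩, hzO, hOAB⟩ :=
    U.isBasis_affineOpens.exists_subset_of_mem_open (⟨hzA, hzB⟩ : z ∈ A ∩ B) (hA.inter hB)
  change U.Opens at O
  refine ⟨O, hzO, hclopen O hO.isCompact, ⟨fun {Z} t t' e => ?_⟩⟩
  let l : Z ⟶ P := pullback.lift (t ≫ O.ι) (t' ≫ O.ι) (by simpa using e)
  have hl : Set.range l ⊆ Set.range Δ := by
    rintro _ ⟨w, rfl⟩
    by_contra hc
    refine hAB (show ((t ≫ O.ι) w, (t' ≫ O.ι) w) ∈ A ×ˢ B from
      ⟨(hOAB (t w).2).1, (hOAB (t' w).2).2⟩) ⟨l w, hc, ?_⟩
    dsimp only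
    rw [← Scheme.Hom.comp_apply, ← Scheme.Hom.comp_apply, pullback.lift_fst, pullback.lift_snd]
  have h := IsOpenImmersion.lift_fac Δ l hl
  have h1 := congrArg (· ≫ pullback.fst σ σ) h
  have h2 := congrArg (· ≫ pullback.snd σ σ) h
  simp only [Category.assoc, Δ, l, pullback.diagonal_fst, pullback.diagonal_snd, Category.comp_id,
    pullback.lift_fst, pullback.lift_snd] at h1 h2
  exact (cancel_mono O.ι).1 (h1.symm.trans h2)

end Groth.Agent.Lib.AlgSpNormCover
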