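import Groth.Agent.Lib.AlgSpNormCover.Basic
import Groth.Agent.Lib.AlgSpNormCover.Split
import Groth.Agent.Lib.AlgSpMor.Perm
import Mathlib.FieldTheory.IsAlgClosed.AlgebraicClosure

/-!
# Integral surjections from schemes
-/

universe u

open CategoryTheory CategoryTheory.Limits AlgebraicGeometry Opposite Topology

namespace Groth.Agent.Lib.AlgSpNormCover

open AlgSp Groth.Agent.Lib.AlgSpace Groth.Agent.Lib.AlgSpMor Groth.Agent.Lib.AlgSpMor.RelNorm
  Groth.Agent.Lib.AlgSpDecent

variable {S : Scheme.{u}}

/-- An etale surjection onto a quasi-compact space is dominated by an affine one. -/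
theorem exists_affine_refinement {X : Sp S} (hX : IsAlgSpace X) [CompactSpace (Points X)] {U : Over S}
    {p : (yon S).obj U ⟶ X} (he : RepWith @Etale p) (hs : RepWith @Surjective p) :
    ∃ (T : Over S) (k : T ⟶ U), IsAffine T.left ∧ RepWith @Etale ((yon S).map k ≫ p) ∧
      RepWith @Surjective ((yon S).map k ≫ p) := by
  have hcov : ∀ x : Points X, ∃ O : U.left.affineOpens, x ∈ Points.ofPt p '' (O.1 : Set ↥U.left) := by
    intro x
    obtain ⟨v, rfl⟩ := Core.surjective_ofPt hs x
    obtain ⟨O, hO, hv, -⟩ := exists_isAffineOpen_mem_and_subset (U := ⊤) (Set.mem_univ v)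
    exact ⟨⟨O, hO⟩, v, hv, rfl⟩
  obtain ⟨s, hs'⟩ := isCompact_univ.elim_finite_subcover
    (fun O : U.left.affineOpens ↦ Points.ofPt p '' (O.1 : Set ↥U.left))
    (fun O ↦ Core.isOpenMap_ofPt he _ O.1.2) (fun x _ ↦ Set.mem_iUnion.2 (hcov x))
  let O' : ↥s → U.left.Opens := fun x ↦ x.1.1
  have : ∀ i, IsAffine (O' i).toScheme := fun i ↦ i.1.2
  have he' : RepWith @Etale ((yon S).map (opensSigmaMap O') ≫ p) :=
    repWith_comp (repWith_etale_yon_map (etale_opensSigmaMap O')) he
  refine ⟨opensSigma O', opensSigmaMap O', inferInstanceAs (IsAffine (∐ fun i ↦ (O' i).toScheme)), he',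
    Core.repWith_surjective_of_surjective he'.rep fun x => ?_⟩
  obtain ⟨i, hi, v, hv, hx⟩ := Set.mem_iUnion₂.1 (hs' (Set.mem_univ x))
  refine ⟨Sigma.ι (fun i ↦ (O' i).toScheme) ⟨i, hi⟩ ⟨v, hv⟩, ?_⟩
  rw [Core.ofPt_map_comp, opensSigmaMap_apply]
  exact hx

/-- A morphism from an affine scheme to a quasi-separated space over a quasi-separated base is
quasi-compact and quasi-separated. -/
theorem qcqs_of_affine [QuasiSeparatedSpace ↥S] {X : Sp S} (hX : IsAlgSpace X) (hqs : IsQuasiSeparatedSp X)
    {W : Over S} [IsAffine W.left] (g : (yon S).obj W ⟶ X) :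
    IsQuasiCompactMor g ∧ IsQuasiSeparatedMor g := by
  constructor
  · have : CompactSpace (Points ((yon S).obj W)) := QC.compactSpace_yon
    refine Perm.isQuasiCompactMor_of_comp (IsAlgSpace.yon_obj W) hX (IsAlgSpace.yon_obj _).diag
      (g := Perm.toBase X) ?_ ?_
    · rw [(Over.mkIdTerminal.isTerminalObj (yon S)).hom_ext (_ ≫ Perm.toBase X) (Perm.toBase _)]
      exact Perm.isQuasiCompactMor_toBase (IsAlgSpace.yon_obj W)
    · let q := Perm.toBase X
      let e : pullback q q ≅ X ⨯ X :=
        { hom := prod.lift (pullback.fst q q) (pullback.snd q q)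
          inv := pullback.lift prod.fst prod.snd ((Over.mkIdTerminal.isTerminalObj (yon S)).hom_ext _ _)
          hom_inv_id := by
            apply pullback.hom_ext
            · rw [Category.assoc, pullback.lift_fst, prod.lift_fst, Category.id_comp]
            · rw [Category.assoc, pullback.lift_snd, prod.lift_snd, Category.id_comp]
          inv_hom_id := by
            apply prod.hom_ext
            · rw [Category.assoc, prod.lift_fst, pullback.lift_fst, Category.id_comp]
            · rw [Category.assoc, prod.lift_snd, pullback.lift_snd, Category.id_comp] }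
      have : IsIso e.hom := Iso.isIso_hom e
      have sq : IsPullback (𝟙 X) (pullback.diagonal q) (Limits.diag X) e.hom :=
        IsPullback.of_horiz_isIso ⟨by apply prod.hom_ext <;> simp [e]⟩
      exact repWith_baseChange sq hqs
  · refine Sep.repWith_diagonal_of_diag _ g ?_
    rw [AlgSp.repWith_diag_yon_iff]
    have : IsSeparated W.hom := inferInstance
    have : IsClosedImmersion (pullback.diagonal W.hom) := inferInstance
    infer_instance

/-- A space all of whose maps from affine schemes are quasi-compact and quasi-separated has an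
integral surjection from a scheme which factors Zariski locally through a given affine etale chart. -/
theorem exists_integral_cover' {X : Sp S} (hX : IsAlgSpace X)
    (H : ∀ {W : Over S} [IsAffine W.left] (g : (yon S).obj W ⟶ X),
      IsQuasiCompactMor g ∧ IsQuasiSeparatedMor g) {T : Over S} [IsAffine T.left]
    {b : (yon S).obj T ⟶ X} (hb : RepWith @Etale b) (hbs : RepWith @Surjective b) :
    ∃ (Y : Over S) (ν : (yon S).obj Y ⟶ X), RepWith @IsIntegralHom ν ∧ RepWith @Surjective ν ∧
      ∀ y : ↥Y.left, ∃ (O : Y.left.Opens) (c : Over.mk (O.ι ≫ Y.hom) ⟶ T), y ∈ O ∧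
        (yon S).map c ≫ b =
          (yon S).map (Over.homMk O.ι rfl : Over.mk (O.ι ≫ Y.hom) ⟶ Y) ≫ ν := by
  let K : ↥T.left → Type u := fun t => AlgebraicClosure (T.left.residueField t)
  let φ : Γ(T.left, ⊤) ⟶ CommRingCat.of (∀ t, K t) := CommRingCat.ofHom (Pi.ringHom fun t =>
    (algebraMap (T.left.residueField t) (K t)).comp (T.left.evaluation ⊤ t trivial).hom)
  let W : Over S := Over.mk ((Spec.map φ ≫ T.left.isoSpec.inv) ≫ T.hom)
  let h : W ⟶ T := Over.homMk (Spec.map φ ≫ T.left.isoSpec.inv) rfl
  have : IsAffine W.left := inferInstanceAs (IsAffine (Spec _))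
  let g : (yon S).obj W ⟶ X := (yon S).map h ≫ b
  obtain ⟨hqc, hqsg⟩ := H g
  obtain ⟨U, σ, m, sq⟩ := exists_isPullback_yon hX.diag g b
  have hσ : Etale σ.left := repWith_property hb sq.flip
  have : QuasiCompact m.left := repWith_property
    ((QC.repWith_quasiCompact_iff (hX.representable_from_yon g)).2 hqc) sq
  have : CompactSpace ↥U.left := QuasiCompact.compactSpace_of_compactSpace m.left
  have : U.left.IsSeparated := by
    let j : U.left ⟶ pullback (terminal.from W.left) (terminal.from T.left) :=
      pullback.lift σ.left m.left (Subsingleton.elim _ _)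
    have : Mono j := ⟨fun {Z} t t' e => by
      have e1 : t ≫ σ.left = t' ≫ σ.left := by
        have := congrArg (· ≫ pullback.fst _ _) e
        simp only [j, Category.assoc] at this
        rwa [pullback.lift_fst] at this
      have e2 : t ≫ m.left = t' ≫ m.left := by
        have := congrArg (· ≫ pullback.snd _ _) e
        simp only [j, Category.assoc] at this
        rwa [pullback.lift_snd] at this
      have e3 : t' ≫ U.hom = t ≫ U.hom := by rw [← Over.w σ, reassoc_of% e1]
      let t₁ : Over.mk (t ≫ U.hom) ⟶ U := Over.homMk t rfl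
      let t₂ : Over.mk (t ≫ U.hom) ⟶ U := Over.homMk t' e3
      have : t₁ = t₂ := (yon S).map_injective (sq.hom_ext
        (by rw [← Functor.map_comp, ← Functor.map_comp]; exact congrArg _ (Over.OverMorphism.ext e1))
        (by rw [← Functor.map_comp, ← Functor.map_comp]; exact congrArg _ (Over.OverMorphism.ext e2)))
      exact congrArg Over.Hom.left this⟩
    refine ⟨?_⟩
    rw [show terminal.from U.left = j ≫ pullback.fst _ _ ≫ terminal.from W.left from
      Subsingleton.elim _ _]
    infer_instance
  have hW : ∀ x y : ↥W.left, y ⤳ x → y = x := fun x y hyx => by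
    have hle : PrimeSpectrum.asIdeal y ≤ PrimeSpectrum.asIdeal x :=
      (PrimeSpectrum.le_iff_specializes y x).2 hyx
    exact PrimeSpectrum.ext
      ((isMaximal_of_isPrime_pi K y.asIdeal).eq_of_le x.isPrime.ne_top hle)
  have hk : ∀ w : ↥W.left, IsAlgClosed (W.left.residueField w) := isAlgClosed_residueField_pi K
  choose O hzO hOc hOm using exists_clopen_mono σ.left hW hk
  obtain ⟨s, hs⟩ := isCompact_univ.elim_finite_subcover (fun z => (O z : Set ↥U.left))
    (fun z => (O z).isOpen) (fun z _ => Set.mem_iUnion.2 ⟨z, hzO z⟩)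
  obtain ⟨Y, ν, w, hstr, hν, -, hloc⟩ := exists_scheme_normalization hX hqc hqsg hb hbs sq
    (fun z : ↥s => (O z.1 : Set ↥U.left)) (fun z => ⟨hOc z.1, (O z.1).isOpen⟩)
    (fun z => by
      obtain ⟨i, hi, hz⟩ := Set.mem_iUnion₂.1 (hs (Set.mem_univ z))
      exact ⟨⟨i, hi⟩, hz⟩)
    (fun z => hOm z.1)
  refine ⟨Y, ν, hν, Core.repWith_surjective_of_surjective hν.rep fun x => ?_, hloc⟩
  obtain ⟨t, rfl⟩ := Core.surjective_ofPt hbs x
  let p : ↥W.left := ⟨RingHom.ker (Pi.evalRingHom K t), RingHom.ker_isPrime _⟩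
  refine ⟨w.left p, ?_⟩
  have hp : h.left p = t := by
    show (Spec.map φ ≫ T.left.isoSpec.inv) p = t
    rw [Scheme.Hom.comp_apply]
    apply T.left.isoSpec.hom.homeomorph.injective
    show T.left.isoSpec.hom (T.left.isoSpec.inv _) = T.left.isoSpec.hom t
    rw [← Scheme.Hom.comp_apply, Iso.inv_hom_id]
    show Spec.map φ p = T.left.toSpecΓ t
    rw [Scheme.toSpecΓ_apply]
    refine PrimeSpectrum.ext (Ideal.ext fun f => ?_)
    show algebraMap (T.left.residueField t) (K t) ((T.left.evaluation ⊤ t trivial).hom f) = 0 ↔ _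
    rw [map_eq_zero]
    exact (IsLocalRing.residue_eq_zero_iff _).trans Iff.rfl
  rw [← Core.ofPt_map_comp, hstr.fac, Core.ofPt_map_comp, hp]

/-- A quasi-compact quasi-separated space has an integral surjection from a scheme which factors
Zariski locally through a given etale chart. -/
theorem exists_integral_cover [QuasiSeparatedSpace ↥S] {X : Sp S} (hX : IsAlgSpace X)
    (hqs : IsQuasiSeparatedSp X) {T : Over S} [IsAffine T.left]
    {b : (yon S).obj T ⟶ X} (hb : RepWith @Etale b) (hbs : RepWith @Surjective b) :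
    ∃ (Y : Over S) (ν : (yon S).obj Y ⟶ X), RepWith @IsIntegralHom ν ∧ RepWith @Surjective ν ∧
      ∀ y : ↥Y.left, ∃ (O : Y.left.Opens) (c : Over.mk (O.ι ≫ Y.hom) ⟶ T), y ∈ O ∧
        (yon S).map c ≫ b =
          (yon S).map (Over.homMk O.ι rfl : Over.mk (O.ι ≫ Y.hom) ⟶ Y) ≫ ν := by
  exact exists_integral_cover' hX (fun g => qcqs_of_affine hX hqs g) hb hbs

end Groth.Agent.Lib.AlgSpNormCover
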