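import Groth.Agent.Lib.AlgSpMor.RelNorm.Main
import Groth.Agent.Lib.AlgSpMor.QC
import Groth.Agent.Lib.AlgSpMor.EtaleMono
import Groth.Agent.Lib.AlgSpDecent.Glue
import Groth.Agent.Lib.AlgSpDecent.OpenScheme
import Mathlib.AlgebraicGeometry.Morphisms.Finite
import Mathlib.AlgebraicGeometry.Morphisms.Separated

/-!
# Relative normalisations which are schemes

If the pullback of an affine etale chart to the source of a morphism splits into finitely many clopen
pieces mapping monomorphically, then the relative normalisation is a scheme, Zariski locally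
factoring through the chart.
-/

universe u

open CategoryTheory CategoryTheory.Limits AlgebraicGeometry Opposite Topology

namespace Groth.Agent.Lib.AlgSpNormCover

open AlgSp Groth.Agent.Lib.AlgSpace Groth.Agent.Lib.AlgSpMor Groth.Agent.Lib.AlgSpMor.RelNorm
  Groth.Agent.Lib.AlgSpDecent

variable {S : Scheme.{u}}

/-- The image of the source of a relative normalisation of schemes is dense. -/
theorem denseRange_of_str {U T N : Over S} {m : U ⟶ T} [QuasiCompact m.left] {ν : N ⟶ T}
    [IsIntegralHom ν.left] {a : U ⟶ N}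
    (h : Str ((yon S).map m) ((yon S).map ν) ((yon S).map a)) : DenseRange a.left := by
  have hfac : a ≫ ν = m := (yon S).map_injective (by rw [Functor.map_comp]; exact h.fac)
  have : QuasiCompact (a.left ≫ ν.left) := by rw [← Over.comp_left, hfac]; infer_instance
  have : QuasiCompact a.left := QuasiCompact.of_comp a.left ν.left
  let Z : Over S := Over.mk (a.left.imageι ≫ N.hom)
  let i : Z ⟶ N := Over.homMk a.left.imageι rfl
  let r : U ⟶ Z := Over.homMk a.left.toImage (by
    show a.left.toImage ≫ a.left.imageι ≫ N.hom = U.hom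
    rw [Scheme.Hom.toImage_imageι_assoc, Over.w])
  have hri : r ≫ i = a := Over.OverMorphism.ext a.left.toImage_imageι
  have hint : IsIntegralMor ((yon S).map (i ≫ ν)) :=
    AffineDescent.isIntegralMor_iff.2 ((AlgSp.repWith_yon_map_iff _ _).2
      (inferInstanceAs (IsIntegralHom (a.left.imageι ≫ ν.left))))
  have hn := h.isRelNormalization (IsAlgSpace.yon_obj T)
  obtain ⟨k₀, ⟨k1, k2⟩, -⟩ := hn.2.2 (IsAlgSpace.yon_obj Z) ((yon S).map (i ≫ ν)) ((yon S).map r) hint
    (by rw [← Functor.map_comp, reassoc_of% hri, hfac])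
  obtain ⟨k, rfl⟩ := (yon S).map_surjective k₀
  have k1' : a ≫ k = r := (yon S).map_injective (by rw [Functor.map_comp]; exact k1)
  have k2' : k ≫ i ≫ ν = ν := (yon S).map_injective (by rw [Functor.map_comp]; exact k2)
  obtain ⟨w, -, hw⟩ := hn.2.2 (IsAlgSpace.yon_obj N) ((yon S).map ν) ((yon S).map a) hn.2.1 hn.1
  have e : k ≫ i = 𝟙 N := (yon S).map_injective ((hw _ ⟨
    by rw [← Functor.map_comp, reassoc_of% k1', hri],
    by rw [← Functor.map_comp, Category.assoc, k2']⟩).trans (hw _ ⟨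
    by rw [← Functor.map_comp, Category.comp_id],
    by rw [← Functor.map_comp, Category.id_comp]⟩).symm)
  intro y
  have hy : y ∈ Set.range a.left.imageι := ⟨k.left y, by
    have := congrArg (fun f : N ⟶ N => f.left y) e
    exact this⟩
  rw [Scheme.IdealSheafData.range_subschemeι, Scheme.Hom.support_ker] at hy
  exact hy

/-- Clopen subsets of the source extend to the relative normalisation. -/
theorem exists_clopen_of_str {U T N : Over S} {m : U ⟶ T} {ν : N ⟶ T} {a : U ⟶ N}
    (h : Str ((yon S).map m) ((yon S).map ν) ((yon S).map a)) {C : Set ↥U.left} (hC : IsClopen C) :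
    ∃ D : Set ↥N.left, IsClopen D ∧ a.left ⁻¹' D = C := by
  let O₁ : U.left.Opens := ⟨C, hC.isOpen⟩
  let O₂ : U.left.Opens := ⟨Cᶜ, hC.compl.isOpen⟩
  obtain ⟨hcol⟩ := nonempty_isColimit_binaryCofanMk_of_isCompl O₁.ι O₂.ι (by
    rw [Scheme.Opens.opensRange_ι, Scheme.Opens.opensRange_ι]
    refine ⟨disjoint_iff.2 (TopologicalSpace.Opens.ext ?_),
      codisjoint_iff.2 (TopologicalSpace.Opens.ext ?_)⟩
    · exact Set.inter_compl_self C
    · exact Set.union_compl_self C)
  let B : Over S := Over.mk (coprod.desc (𝟙 T.left) (𝟙 T.left) ≫ T.hom)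
  let fold : B ⟶ T := Over.homMk (coprod.desc (𝟙 T.left) (𝟙 T.left)) rfl
  let g₀ : U.left ⟶ T.left ⨿ T.left :=
    hcol.desc (BinaryCofan.mk (O₁.ι ≫ m.left ≫ coprod.inl) (O₂.ι ≫ m.left ≫ coprod.inr))
  have hg1 : O₁.ι ≫ g₀ = O₁.ι ≫ m.left ≫ coprod.inl := hcol.fac _ ⟨.left⟩
  have hg2 : O₂.ι ≫ g₀ = O₂.ι ≫ m.left ≫ coprod.inr := hcol.fac _ ⟨.right⟩
  have hgm : g₀ ≫ coprod.desc (𝟙 T.left) (𝟙 T.left) = m.left := by
    refine BinaryCofan.IsColimit.hom_ext hcol ?_ ?_
    · show O₁.ι ≫ g₀ ≫ _ = O₁.ι ≫ m.left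
      rw [reassoc_of% hg1, coprod.inl_desc, Category.comp_id]
    · show O₂.ι ≫ g₀ ≫ _ = O₂.ι ≫ m.left
      rw [reassoc_of% hg2, coprod.inr_desc, Category.comp_id]
  let g : U ⟶ B := Over.homMk g₀ (by
    show g₀ ≫ coprod.desc (𝟙 T.left) (𝟙 T.left) ≫ T.hom = U.hom
    rw [reassoc_of% hgm, Over.w])
  have hfin : IsFinite (coprod.desc (𝟙 T.left) (𝟙 T.left)) := inferInstance
  have hint : IsIntegralMor ((yon S).map fold) :=
    AffineDescent.isIntegralMor_iff.2 ((AlgSp.repWith_yon_map_iff _ _).2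
      (inferInstanceAs (IsIntegralHom (coprod.desc (𝟙 T.left) (𝟙 T.left)))))
  obtain ⟨k₀, ⟨k1, -⟩, -⟩ := (h.isRelNormalization (IsAlgSpace.yon_obj T)).2.2
    (IsAlgSpace.yon_obj B) ((yon S).map fold) ((yon S).map g) hint
    (by rw [← Functor.map_comp]; exact congrArg _ (Over.OverMorphism.ext hgm))
  obtain ⟨k, rfl⟩ := (yon S).map_surjective k₀
  have k1' : a.left ≫ k.left = g₀ :=
    congrArg Over.Hom.left ((yon S).map_injective (show (yon S).map (a ≫ k) = (yon S).map g by
      rw [Functor.map_comp]; exact k1))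
  refine ⟨k.left ⁻¹' Set.range (coprod.inl : T.left ⟶ T.left ⨿ T.left), IsClopen.preimage ⟨?_,
    (coprod.inl : T.left ⟶ T.left ⨿ T.left).isOpenEmbedding.isOpen_range⟩ k.left.continuous, ?_⟩
  · rw [(isCompl_range_inl_inr T.left T.left).eq_compl]
    exact (coprod.inr : T.left ⟶ T.left ⨿ T.left).isOpenEmbedding.isOpen_range.isClosed_compl
  · ext z
    have hz : k.left (a.left z) = g₀ z := by rw [← k1']; rfl
    rw [Set.mem_preimage, Set.mem_preimage, hz]
    by_cases hzC : z ∈ C
    · refine iff_of_true ⟨m.left z, ?_⟩ hzC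
      exact (congrArg (fun f : (O₁ : Scheme.{u}) ⟶ _ => f ⟨z, hzC⟩) hg1).symm
    · refine iff_of_false ?_ hzC
      rintro ⟨t, ht⟩
      exact inl_ne_inr T.left T.left t (m.left z)
        (ht.trans (congrArg (fun f : (O₂ : Scheme.{u}) ⟶ _ => f ⟨z, hzC⟩) hg2))

/-- An etale map whose self fibre product is its diagonal on a dense set is a monomorphism. -/
theorem mono_of_dense {F : Sp S} (hF : IsAlgSpace F) {V : Over S} [V.left.IsSeparated]
    {q : (yon S).obj V ⟶ F} (hq : RepWith @Etale q) {W : Over S} {w : (yon S).obj W ⟶ F}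
    (hw : Dense (Set.range (Points.ofPt w)))
    (heq : ∀ (Q : Over S) (p : Q ⟶ W) (x₁ x₂ : Q ⟶ V),
      (yon S).map x₁ ≫ q = (yon S).map p ≫ w → (yon S).map x₂ ≫ q = (yon S).map p ≫ w → x₁ = x₂) :
    Mono q := by
  obtain ⟨R, r₁, r₂, sqR⟩ := exists_isPullback_yon hF.diag q q
  let Δ₀ : (yon S).obj V ⟶ (yon S).obj R := sqR.lift (𝟙 _) (𝟙 _) rfl
  obtain ⟨Δ, hΔ⟩ := (yon S).map_surjective Δ₀
  have hΔ1 : Δ ≫ r₁ = 𝟙 V := (yon S).map_injective (by
    rw [Functor.map_comp, hΔ, CategoryTheory.Functor.map_id]; exact sqR.lift_fst _ _ _)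
  have hΔ2 : Δ ≫ r₂ = 𝟙 V := (yon S).map_injective (by
    rw [Functor.map_comp, hΔ, CategoryTheory.Functor.map_id]; exact sqR.lift_snd _ _ _)
  have hr₁ : Etale r₁.left := repWith_property hq sqR.flip
  have hid : IsOpenImmersion (Δ.left ≫ r₁.left) := by
    rw [← Over.comp_left, hΔ1]; exact inferInstanceAs (IsOpenImmersion (𝟙 V.left))
  have hΔe : Etale Δ.left := by
    have : Etale (Δ.left ≫ r₁.left) := inferInstance
    exact EtaleMono.etale_of_comp Δ.left r₁.left this
  have : Mono Δ.left := mono_of_mono_fac (show Δ.left ≫ r₁.left = 𝟙 V.left by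
    rw [← Over.comp_left, hΔ1]; rfl)
  have hΔo : IsOpenImmersion Δ.left := IsOpenImmersion.of_flat_of_mono Δ.left
  let j : R.left ⟶ pullback (terminal.from V.left) (terminal.from V.left) :=
    pullback.lift r₁.left r₂.left (Subsingleton.elim _ _)
  have : Mono j := ⟨fun {Z} t t' e => by
    have e1 : t ≫ r₁.left = t' ≫ r₁.left := by
      have := congrArg (· ≫ pullback.fst _ _) e
      simp only [j, Category.assoc] at this
      rwa [pullback.lift_fst] at this
    have e2 : t ≫ r₂.left = t' ≫ r₂.left := by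
      have := congrArg (· ≫ pullback.snd _ _) e
      simp only [j, Category.assoc] at this
      rwa [pullback.lift_snd] at this
    have e3 : t' ≫ R.hom = t ≫ R.hom := by
      rw [← Over.w r₁, reassoc_of% e1]
    let t₁ : Over.mk (t ≫ R.hom) ⟶ R := Over.homMk t rfl
    let t₂ : Over.mk (t ≫ R.hom) ⟶ R := Over.homMk t' e3
    have : t₁ = t₂ := (yon S).map_injective (sqR.hom_ext
      (by rw [← Functor.map_comp, ← Functor.map_comp]; exact congrArg _ (Over.OverMorphism.ext e1))
      (by rw [← Functor.map_comp, ← Functor.map_comp]; exact congrArg _ (Over.OverMorphism.ext e2)))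
    exact congrArg Over.Hom.left this⟩
  have : IsSeparated (terminal.from V.left) := Scheme.IsSeparated.isSeparated_terminal_from
  have hdiag : IsClosedImmersion (Δ.left ≫ j) := by
    have : Δ.left ≫ j = pullback.diagonal (terminal.from V.left) := by
      apply pullback.hom_ext
      · rw [Category.assoc, pullback.lift_fst, pullback.diagonal_fst, ← Over.comp_left, hΔ1]; rfl
      · rw [Category.assoc, pullback.lift_snd, pullback.diagonal_snd, ← Over.comp_left, hΔ2]; rfl
    rw [this]; infer_instance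
  have hΔc : IsClosedImmersion Δ.left := IsClosedImmersion.of_comp Δ.left j
  -- the preimage of the dense set
  have hopen : IsOpenMap (Points.ofPt ((yon S).map r₁ ≫ q)) := Core.isOpenMap_ofPt
    (LocP.repWith_etale_comp r₁ hq)
  have hd : Dense (Points.ofPt ((yon S).map r₁ ≫ q) ⁻¹' Set.range (Points.ofPt w)) :=
    hw.preimage hopen
  obtain ⟨Q, p, z, sqQ⟩ := exists_isPullback_yon hF.diag w ((yon S).map r₁ ≫ q)
  have hz : z ≫ r₁ = z ≫ r₂ := by
    refine heq Q p _ _ ?_ ?_
    · rw [Functor.map_comp, Category.assoc]; exact sqQ.w.symm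
    · rw [Functor.map_comp, Category.assoc, ← sqR.w]; exact sqQ.w.symm
  have hzΔ : (z ≫ r₁) ≫ Δ = z := (yon S).map_injective (sqR.hom_ext
    (by rw [← Functor.map_comp, ← Functor.map_comp, Category.assoc, hΔ1, Category.comp_id])
    (by rw [← Functor.map_comp, ← Functor.map_comp, Category.assoc, hΔ2, Category.comp_id, hz]))
  have hsub : Points.ofPt ((yon S).map r₁ ≫ q) ⁻¹' Set.range (Points.ofPt w) ⊆ Set.range Δ.left := by
    rintro r ⟨t, ht⟩
    obtain ⟨v, -, rfl⟩ := Core.exists_point_of_scheme_isPullback sqQ t r ht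
    exact ⟨(z ≫ r₁).left v, congrArg (fun f : Q ⟶ R => f.left v) hzΔ⟩
  have hsurj : Surjective Δ.left := ⟨by
    rw [← Set.range_eq_univ, ← Δ.left.isClosedEmbedding.isClosed_range.closure_eq]
    exact (hd.mono hsub).closure_eq⟩
  have : IsIso Δ.left := by
    exact (isIso_iff_isOpenImmersion_and_epi_base _).2 ⟨hΔo, (TopCat.epi_iff_surjective _).2 hsurj.1⟩
  refine mono_of_yon q fun T x y e => ?_
  obtain ⟨x', rfl⟩ := (yon S).map_surjective x
  obtain ⟨y', rfl⟩ := (yon S).map_surjective y
  obtain ⟨l, hl⟩ := (yon S).map_surjective (sqR.lift _ _ e)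
  have l1 : l ≫ r₁ = x' := (yon S).map_injective (by
    rw [Functor.map_comp, hl]; exact sqR.lift_fst _ _ _)
  have l2 : l ≫ r₂ = y' := (yon S).map_injective (by
    rw [Functor.map_comp, hl]; exact sqR.lift_snd _ _ _)
  have key : r₁.left = r₂.left := by
    rw [← cancel_epi Δ.left, ← Over.comp_left, ← Over.comp_left, hΔ1, hΔ2]
  rw [← l1, ← l2]
  exact congrArg _ (Over.OverMorphism.ext (by rw [Over.comp_left, Over.comp_left, key]))

/-- The relative normalisation is a scheme when the pulled back chart splits. -/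
theorem exists_scheme_normalization {X : Sp S} (hX : IsAlgSpace X) {W T U : Over S} [IsAffine T.left]
    {g : (yon S).obj W ⟶ X} (hqc : IsQuasiCompactMor g) (hqs : IsQuasiSeparatedMor g)
    {b : (yon S).obj T ⟶ X} (hb : RepWith @Etale b) (hbs : RepWith @Surjective b)
    {σ : U ⟶ W} {m : U ⟶ T} (sq : IsPullback ((yon S).map σ) ((yon S).map m) g b)
    {ι : Type u} [Finite ι] (C : ι → Set ↥U.left) (hC : ∀ i, IsClopen (C i))
    (hcov : ∀ z, ∃ i, z ∈ C i)
    (hmono : ∀ i, Mono (Scheme.Opens.ι (X := U.left) ⟨C i, (hC i).isOpen⟩ ≫ σ.left)) :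
    ∃ (Y : Over S) (ν : (yon S).obj Y ⟶ X) (w : W ⟶ Y),
      Str g ν ((yon S).map w) ∧ RepWith @IsIntegralHom ν ∧ DenseRange w.left ∧
      ∀ y : ↥Y.left, ∃ (O : Y.left.Opens) (c : Over.mk (O.ι ≫ Y.hom) ⟶ T), y ∈ O ∧
        (yon S).map c ≫ b =
          (yon S).map (Over.homMk O.ι rfl : Over.mk (O.ι ≫ Y.hom) ⟶ Y) ≫ ν := by
  obtain ⟨Y₀, ν, f', hY₀, hstr⟩ := exists_str hX (IsAlgSpace.yon_obj W) hqc hqs
  have hν : RepWith @IsIntegralHom ν := AffineDescent.isIntegralMor_iff.1 hstr.integral
  obtain ⟨N, νN, q, sqN, hνN⟩ := repWith_exists hν b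
  have := hνN
  have : IsAffine N.left := isAffine_of_isAffineHom νN.left
  have hq : RepWith @Etale q := repWith_baseChange sqN.flip hb
  have hqsurj : RepWith @Surjective q := repWith_baseChange sqN.flip hbs
  obtain ⟨a, ha⟩ := (yon S).map_surjective (sqN.lift ((yon S).map σ ≫ f') ((yon S).map m)
    (by rw [Category.assoc, hstr.fac, sq.w]))
  have ha1 : (yon S).map a ≫ q = (yon S).map σ ≫ f' := by rw [ha]; exact sqN.lift_fst _ _ _
  have ha2 : (yon S).map a ≫ (yon S).map νN = (yon S).map m := by rw [ha]; exact sqN.lift_snd _ _ _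
  have sqa : IsPullback ((yon S).map σ) ((yon S).map a) f' q :=
    IsPullback.of_bot (by rw [ha2, hstr.fac]; exact sq) ha1.symm sqN
  have hS : Str ((yon S).map m) ((yon S).map νN) ((yon S).map a) :=
    hstr.baseChange hX (IsAlgSpace.yon_obj T) (locP_smooth_of_etale hb) sq sqN ha1 ha2
  have : QuasiCompact m.left := repWith_property
    ((QC.repWith_quasiCompact_iff (hX.representable_from_yon g)).2 hqc) sq
  have hdense : DenseRange a.left := denseRange_of_str hS
  have hdW : Dense (Set.range (Points.ofPt f')) := by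
    refine ((Core.surjective_ofPt hqsurj).denseRange.dense_image
      (Points.continuous_ofPt q) hdense).mono ?_
    rintro _ ⟨_, ⟨z, rfl⟩, rfl⟩
    exact ⟨σ.left z, by rw [← Core.ofPt_map_comp, ← ha1, Core.ofPt_map_comp]⟩
  choose D hD hDC using fun i => exists_clopen_of_str hS (hC i)
  have hDcov : ∀ n, ∃ i, n ∈ D i := fun n => by
    have h1 : Set.range a.left ⊆ ⋃ i, D i := by
      rintro _ ⟨z, rfl⟩
      obtain ⟨i, hi⟩ := hcov z
      exact Set.mem_iUnion.2 ⟨i, (hDC i).ge hi⟩
    exact Set.mem_iUnion.1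
      (((isClosed_iUnion_of_finite fun i => (hD i).1).closure_subset_iff.2 h1) (hdense n))
  let Ni : ι → Over S := fun i =>
    Over.mk (Scheme.Opens.ι (X := N.left) ⟨D i, (hD i).isOpen⟩ ≫ N.hom)
  let incl : ∀ i, Ni i ⟶ N := fun i => Over.homMk (Scheme.Opens.ι _) rfl
  let qi : ∀ i, (yon S).obj (Ni i) ⟶ Y₀ := fun i => (yon S).map (incl i) ≫ q
  have hqi : ∀ i, RepWith @Etale (qi i) := fun i => by
    have : Etale (incl i).left := inferInstanceAs (Etale (Scheme.Opens.ι _))
    exact LocP.repWith_etale_comp (incl i) hq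
  have hqm : ∀ i, Mono (qi i) := fun i => by
    have : (Ni i).left.IsSeparated := by
      refine ⟨?_⟩
      have : IsOpenImmersion (incl i).left := inferInstanceAs (IsOpenImmersion (Scheme.Opens.ι _))
      rw [← terminal.comp_from (incl i).left]
      infer_instance
    refine mono_of_dense hY₀ (hqi i) hdW fun Q p x₁ x₂ h1 h2 => ?_
    have key : ∀ (x : Q ⟶ Ni i), (yon S).map x ≫ qi i = (yon S).map p ≫ f' →
        ∃ v : Q.left ⟶ (Scheme.Opens.toScheme ⟨C i, (hC i).isOpen⟩ : Scheme.{u}),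
          v ≫ Scheme.Opens.ι _ ≫ σ.left = p.left ∧
          v ≫ Scheme.Opens.ι _ ≫ a.left = x.left ≫ (incl i).left := by
      intro x hx
      obtain ⟨u, hu⟩ := (yon S).map_surjective (sqa.lift ((yon S).map p) ((yon S).map (x ≫ incl i))
        (by rw [← hx, Functor.map_comp, Category.assoc]))
      have u1 : u ≫ σ = p := (yon S).map_injective (by
        rw [Functor.map_comp, hu]; exact sqa.lift_fst _ _ _)
      have u2 : u ≫ a = x ≫ incl i := (yon S).map_injective (by
        rw [Functor.map_comp _ u a, hu]; exact sqa.lift_snd _ _ _)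
      have hu' : ∀ t, u.left t ∈ C i := fun t => (hDC i).le (by
        show a.left (u.left t) ∈ D i
        rw [← Scheme.Hom.comp_apply, ← Over.comp_left, u2]
        exact (x.left t).2)
      refine ⟨IsOpenImmersion.lift (Scheme.Opens.ι _) u.left
        (by rw [Scheme.Opens.range_ι]; rintro _ ⟨t, rfl⟩; exact hu' t), ?_, ?_⟩
      · rw [IsOpenImmersion.lift_fac_assoc, ← Over.comp_left, u1]
      · rw [IsOpenImmersion.lift_fac_assoc, ← Over.comp_left, u2, Over.comp_left]
    obtain ⟨v₁, v1, w1⟩ := key x₁ h1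
    obtain ⟨v₂, v2, w2⟩ := key x₂ h2
    have := hmono i
    obtain rfl : v₁ = v₂ := (cancel_mono (Scheme.Opens.ι _ ≫ σ.left)).1 (v1.trans v2.symm)
    have : IsOpenImmersion (incl i).left := inferInstanceAs (IsOpenImmersion (Scheme.Opens.ι _))
    exact Over.OverMorphism.ext ((cancel_mono (incl i).left).1 (w1.symm.trans w2))
  have hqo : ∀ i, RepWith @IsOpenImmersion (qi i) := fun i => by
    have := hqm i
    exact EtaleMono.repWith_openImmersion_of_mono hY₀.diag (a := 𝟙 _) (AlgSp.repWith_id @Etale _)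
      (AlgSp.repWith_id @Surjective _) (by rw [Category.id_comp]; exact hqi i)
  obtain ⟨G, e, he, her⟩ := Glue.exists_union hqo hY₀
  have : IsIso e := OpenScheme.isIso_of_surjective he fun y => by
    obtain ⟨n, rfl⟩ := Core.surjective_ofPt hqsurj y
    obtain ⟨i, hi⟩ := hDcov n
    refine her.ge (Set.mem_iUnion.2 ⟨i, ?_⟩)
    rw [Core.range_points_map_yon]
    exact ⟨⟨n, hi⟩, Core.ofPt_map_comp (incl i) q _⟩
  obtain ⟨w, hw⟩ := (yon S).map_surjective (f' ≫ inv e)
  choose k hk using fun i => (yon S).map_surjective (qi i ≫ inv e)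
  have hki : ∀ i, IsOpenImmersion (k i).left := fun i => by
    refine (AlgSp.repWith_yon_map_iff _ (k i)).1 ?_
    rw [hk i]
    exact repWith_comp (hqo i) (repWith_of_isIso _ (inv e))
  refine ⟨G, e ≫ ν, w, hstr.of_iso (asIso e).symm (by rw [hw]; rfl) (by simp),
    repWith_comp (repWith_of_isIso _ e) hν, ?_, fun y => ?_⟩
  · intro y
    have h1 : Dense (Points.ofPt e ⁻¹' Set.range (Points.ofPt f')) :=
      hdW.preimage (Core.isOpenMap_ofPt (repWith_of_isIso _ e))
    refine (h1.mono ?_) y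
    rintro z ⟨t, ht⟩
    refine ⟨t, ?_⟩
    have h2 : Points.ofPt e (w.left t) = Points.ofPt e z := by
      rw [← Core.ofPt_map_comp, hw, Category.assoc, IsIso.inv_hom_id, Category.comp_id, ht]
    have h3 : Function.Injective (Points.ofPt e) := fun z z' hzz => by
      apply (Points.schemeEquiv G).injective
      apply Core.injective_map_of_mono e
      rw [show (Points.schemeEquiv G) z = Points.ofScheme G z from rfl,
        show (Points.schemeEquiv G) z' = Points.ofScheme G z' from rfl, Core.map_ofScheme,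
        Core.map_ofScheme, hzz]
    exact h3 h2
  · obtain ⟨n, hn⟩ := Core.surjective_ofPt hqsurj (Points.ofPt e y)
    obtain ⟨i, hi⟩ := hDcov n
    have := hki i
    have h3 : Function.Injective (Points.ofPt e) := fun z z' hzz => by
      apply (Points.schemeEquiv G).injective
      apply Core.injective_map_of_mono e
      rw [show (Points.schemeEquiv G) z = Points.ofScheme G z from rfl,
        show (Points.schemeEquiv G) z' = Points.ofScheme G z' from rfl, Core.map_ofScheme,
        Core.map_ofScheme, hzz]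
    have hy : (k i).left ⟨n, hi⟩ = y := h3 (by
      rw [← Core.ofPt_map_comp, hk i, Category.assoc, IsIso.inv_hom_id, Category.comp_id, ← hn]
      exact Core.ofPt_map_comp (incl i) q _)
    let O := (k i).left.opensRange
    let l : Over.mk (O.ι ≫ G.hom) ⟶ Ni i :=
      Over.homMk (IsOpenImmersion.lift (k i).left O.ι (by rw [Scheme.Opens.range_ι]; exact subset_rfl)) (by
        show IsOpenImmersion.lift _ _ _ ≫ (Ni i).hom = O.ι ≫ G.hom
        rw [← Over.w (k i), IsOpenImmersion.lift_fac_assoc])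
    have hl : l ≫ k i = Over.homMk O.ι rfl := Over.OverMorphism.ext (IsOpenImmersion.lift_fac _ _ _)
    refine ⟨O, l ≫ incl i ≫ νN, ⟨⟨n, hi⟩, hy⟩, ?_⟩
    rw [← hl, Functor.map_comp, Functor.map_comp, Functor.map_comp, hk i]
    simp only [qi, Category.assoc, IsIso.inv_hom_id_assoc, sqN.w]

end Groth.Agent.Lib.AlgSpNormCover
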